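import Groth.Agent.H02CA.PnDetect.Proj

/-!
# Bounded coherent objects on a projective scheme are detected by perfect objects
-/

set_option autoImplicit false
set_option linter.style.haveILetI false
set_option backward.isDefEq.respectTransparency false

universe u

open CategoryTheory CategoryTheory.Limits AlgebraicGeometry CategoryTheory.Pretriangulated

attribute [local instance] HasDerivedCategory.standard

noncomputable section

namespace Groth.Agent.H02CA.PnDetect

open Groth.Agent.H16Derived Groth.Agent.H16Derived.PnD Groth.Agent.H16Derived.KFlat Groth.Agent.H16Derived.KFlat.Stalk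
open Groth.Agent.H22Alg Groth.Agent.H22Alg.PB Groth.Agent.H10Coh.Stab

/-- Applying a twist gives a linear bijection on maps out of a module in degree `0`. -/
def twistLinEquiv {k : Type u} [CommRing k] {P : Scheme.{u}} [P.Over (Spec (CommRingCat.of k))] (A B : P.Modules)
    [PreservesFiniteLimits (lw A)] [PreservesFiniteColimits (lw A)] [PreservesFiniteLimits (lw B)]
    [PreservesFiniteColimits (lw B)] (e₁ : CohB1.tensorMod B A ≅ Coh.structureModule P)
    (e₂ : CohB1.tensorMod A B ≅ Coh.structureModule P) (N : P.Modules) (M : DCoh.D P) :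
    (DCoh.inD P N ⟶ M) ≃ₗ[k] ((lw B).mapDerivedCategory.obj (DCoh.inD P N) ⟶ (lw B).mapDerivedCategory.obj M) :=
  LinearEquiv.ofBijective
    { toFun := fun φ => (lw B).mapDerivedCategory.map φ
      map_add' := fun f g => (lw B).mapDerivedCategory.map_add
      map_smul' := fun a f => by
        have h : a • f = (a • 𝟙 (DCoh.inD P N)) ≫ f := by rw [Linear.smul_comp, Category.id_comp]
        rw [h, Functor.map_comp, lwD_map_smul_inD, Linear.smul_comp, Category.id_comp]
        rfl }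
    (bijective_lw_map A B e₁ e₂ (DCoh.inD P N) M)

theorem cohbP_of_ext (k : Type u) [Field k] (X : Scheme.{u}) [X.Over (Spec (.of k))]
    (hproj : RelProj.IsHProjective (X ↘ Spec (.of k))) (K : DCoh.D X) (hK : DCoh.IsQCohD K)
    (h : ∀ E : DCoh.D X, DCoh.IsPerfect E →
        (∀ i : ℤ, Module.Finite k (E ⟶ (shiftFunctor (DCoh.D X) i).obj K)) ∧
        Set.Finite {i : ℤ | Nontrivial (E ⟶ (shiftFunctor (DCoh.D X) i).obj K)}) :
    SGA6.cohbP X K := by
  obtain ⟨n, ι, hι, hw⟩ := hproj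
  let S := Spec (CommRingCat.of k)
  haveI := hι
  have hπ := PnD.isPn n S
  haveI : IsProper (KRR.pr n S) := hπ.isProper
  haveI : IsLocallyNoetherian (KRR.PY n S) := LocallyOfFiniteType.isLocallyNoetherian (KRR.pr n S)
  haveI : IsLocallyNoetherian X := LocallyOfFiniteType.isLocallyNoetherian ι
  haveI := hasLpull ι
  haveI := QCohD.hasRpush ι
  haveI : ∀ d : ℤ, DCoh.HasLTensorMod (Twist.twistOver n S d) := fun d => hasLTensorMod _
  letI := rpushCommShift ι
  haveI := rpush_isTriangulated ι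
  haveI : ∀ d : ℤ, PreservesFiniteLimits (lw (Twist.twistOver n S d)) := fun d => (PnD.exact_lw (hπ.tw.inv d)).1
  haveI : ∀ d : ℤ, PreservesFiniteColimits (lw (Twist.twistOver n S d)) := fun d => (PnD.exact_lw (hπ.tw.inv d)).2
  refine cohbP_of_rpush ι K (cohbP_iff k n ((DCoh.Rpush ι).obj K) (QCohD.isQCohD_rpush ι hK) fun d _ => ?_)
  let O : ℤ → (KRR.PY n S).Modules := fun m => Twist.twistOver n S m
  let N := O (-(d : ℤ))
  have hN : FlatMod.IsFinLocFree N := PnVan.finLocFree_of_inv (hπ.tw.inv _)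
  let E := (DCoh.Lpull ι).obj (DCoh.inD (KRR.PY n S) N)
  obtain ⟨hf, hb⟩ := h E (isPerfect_lpull ι (isPerfect_inD hN))
  obtain ⟨z⟩ := hπ.tw.zero
  obtain ⟨p⟩ := hπ.tw.add (d : ℤ) (-(d : ℤ))
  obtain ⟨p'⟩ := hπ.tw.add (-(d : ℤ)) (d : ℤ)
  let e₂ : CohB1.tensorMod (O (-(d : ℤ))) (O (d : ℤ)) ≅ Coh.structureModule _ :=
    p' ≪≫ eqToIso (congrArg O (neg_add_cancel (d : ℤ))) ≪≫ z
  let e₁ : CohB1.tensorMod (O (d : ℤ)) (O (-(d : ℤ))) ≅ Coh.structureModule _ :=
    p ≪≫ eqToIso (congrArg O (add_neg_cancel (d : ℤ))) ≪≫ z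
  let src : (lw (O (d : ℤ))).mapDerivedCategory.obj (DCoh.inD _ N) ≅
      DCoh.inD (KRR.PY n S) (Coh.structureModule (KRR.PY n S)) :=
    ((lw (O (d : ℤ))).mapDerivedCategorySingleFunctor 0).app N ≪≫
      (DerivedCategory.singleFunctor _ 0).mapIso e₁
  obtain ⟨l⟩ := nonempty_ltensorMod_lw (Twist.twistOver n S (d : ℤ)) ((DCoh.Rpush ι).obj K)
  let Φ : ∀ j : ℤ, (E ⟶ K⟦j⟧) ≃ₗ[k] (DCoh.inD (KRR.PY n S) (Coh.structureModule (KRR.PY n S)) ⟶
      ((DCoh.LTensorMod (Twist.twistOver n S (d : ℤ))).obj ((DCoh.Rpush ι).obj K))⟦j⟧) := fun j =>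
    (adjLinEquiv (lpullRpushAdj ι) (DCoh.inD (KRR.PY n S) N) (lpull_map_smul_inD (k := k) ι hw hN) (K⟦j⟧)).trans
      ((Linear.homCongr k (Iso.refl _) (((DCoh.Rpush ι).commShiftIso j).app K)).trans
        ((twistLinEquiv (O (-(d : ℤ))) (O (d : ℤ)) e₁ e₂ N _).trans
          (Linear.homCongr k src ((((lw (O (d : ℤ))).mapDerivedCategory.commShiftIso j).app _) ≪≫
            (shiftFunctor _ j).mapIso l.symm))))
  exact ⟨fun j => haveI := hf j; Module.Finite.equiv (Φ j),
    hb.subset fun j (hj : Nontrivial _) => (Φ j).toEquiv.nontrivial⟩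

end Groth.Agent.H02CA.PnDetect
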