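import Groth.Agent.H02CA.PnDetect.Main
import Groth.Agent.H16Derived.ExtFin.Linear
import Groth.Agent.H24Formal.Pullback
import Groth.Agent.H8Props.RpushAffine

/-!
# Linearity of twists and pullbacks on structure-type objects; descent along a closed immersion
-/

set_option autoImplicit false
set_option linter.style.haveILetI false
set_option backward.isDefEq.respectTransparency false

universe v u w

open CategoryTheory CategoryTheory.Limits AlgebraicGeometry CategoryTheory.Pretriangulated

attribute [local instance] HasDerivedCategory.standard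

noncomputable section

namespace Groth.Agent.H02CA.PnDetect

open Groth.Agent.H16Derived Groth.Agent.H16Derived.PnD Groth.Agent.H16Derived.KFlat Groth.Agent.H16Derived.KFlat.Stalk

section Gen

variable {R : Type w} [CommRing R] {C D : Type*} [Category C] [Category D] [Preadditive C] [Preadditive D]
  [Linear R C] [Linear R D]

theorem conj_smul_id {A B : C} (e : A ≅ B) (a : R) : e.hom ≫ (a • 𝟙 B) ≫ e.inv = a • 𝟙 A := by
  rw [Linear.smul_comp, Category.id_comp, Linear.comp_smul, Iso.hom_inv_id]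

theorem map_smul_id_of_iso (F : C ⥤ D) {A B : C} (e : A ≅ B) (a : R) (h : F.map (a • 𝟙 B) = a • 𝟙 _) :
    F.map (a • 𝟙 A) = a • 𝟙 _ := by
  rw [← conj_smul_id e a, F.map_comp, F.map_comp, h, Linear.smul_comp, Category.id_comp, Linear.comp_smul,
    ← F.map_comp, Iso.hom_inv_id, F.map_id]

theorem map_smul_of_natIso {F G : C ⥤ D} (e : F ≅ G) {A : C} (a : R) (h : G.map (a • 𝟙 A) = a • 𝟙 _) :
    F.map (a • 𝟙 A) = a • 𝟙 _ := by
  rw [← NatIso.naturality_2 e (a • 𝟙 A), h]
  exact conj_smul_id (e.app A) a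

/-- An adjunction is linear at an object where the left adjoint respects scalars. -/
def adjLinEquiv {L : C ⥤ D} {G : D ⥤ C} (adj : L ⊣ G) [G.Additive] (A : C)
    (h : ∀ a : R, L.map (a • 𝟙 A) = a • 𝟙 (L.obj A)) (M : D) : (L.obj A ⟶ M) ≃ₗ[R] (A ⟶ G.obj M) where
  toFun := adj.homEquiv A M
  invFun := (adj.homEquiv A M).symm
  left_inv := (adj.homEquiv A M).left_inv
  right_inv := (adj.homEquiv A M).right_inv
  map_add' f g := by simp only [Adjunction.homEquiv_unit, Functor.map_add, Preadditive.comp_add]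
  map_smul' a f := by
    have h1 : a • f = L.map (a • 𝟙 A) ≫ f := by rw [h, Linear.smul_comp, Category.id_comp]
    rw [h1, Adjunction.homEquiv_naturality_left, Linear.smul_comp, Category.id_comp]
    rfl

end Gen

variable {k : Type u} [CommRing k] {X Y : Scheme.{u}} [X.Over (Spec (CommRingCat.of k))]
  [Y.Over (Spec (CommRingCat.of k))]

theorem lw_map_smul (L M : X.Modules) (a : k) : (lw L).map (a • 𝟙 M) = a • 𝟙 _ :=
  map_smul_of_natIso (lwIso L) a (ExtFin.tensorBi_map_smul k M L a)

instance linear_lw (L : X.Modules) : (lw L).Linear k := (Functor.linear_iff k _).2 fun M a => lw_map_smul L M a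

theorem lwD_map_smul_inD (L : X.Modules) [PreservesFiniteLimits (lw L)] [PreservesFiniteColimits (lw L)]
    (M : X.Modules) (a : k) :
    (lw L).mapDerivedCategory.map (a • 𝟙 (DCoh.inD X M)) = a • 𝟙 _ := by
  refine map_smul_id_of_iso _ ((DerivedCategory.singleFunctorIsoCompQ X.Modules 0).app M) a ?_
  let C := (CochainComplex.singleFunctor X.Modules 0).obj M
  have hQ : a • 𝟙 (DerivedCategory.Q.obj C) = DerivedCategory.Q.map (a • 𝟙 C) := by
    rw [Functor.map_smul, CategoryTheory.Functor.map_id]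
  show (lw L).mapDerivedCategory.map (a • 𝟙 (DerivedCategory.Q.obj C)) = _
  rw [hQ]
  refine (NatIso.naturality_2 (lw L).mapDerivedCategoryFactors (a • 𝟙 C)).symm.trans ?_
  have hF : ((lw L).mapHomologicalComplex (ComplexShape.up ℤ) ⋙ DerivedCategory.Q).map (a • 𝟙 C) = a • 𝟙 _ := by
    show DerivedCategory.Q.map (((lw L).mapHomologicalComplex (ComplexShape.up ℤ)).map (a • 𝟙 C)) = _
    have h : ((lw L).mapHomologicalComplex (ComplexShape.up ℤ)).map (a • 𝟙 C) = a • 𝟙 _ := by
      refine HomologicalComplex.hom_ext _ _ fun i => ?_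
      exact lw_map_smul L (C.X i) a
    rw [h, Functor.map_smul, CategoryTheory.Functor.map_id]
    rfl
  rw [hF]
  exact conj_smul_id ((lw L).mapDerivedCategoryFactors.app C) a

theorem lpull_map_smul_inD (f : X ⟶ Y) (hf : f ≫ (Y ↘ Spec (CommRingCat.of k)) = X ↘ Spec (CommRingCat.of k))
    [DCoh.HasLpull f] {N : Y.Modules} (hN : FlatMod.IsFinLocFree N) (a : k) :
    (DCoh.Lpull f).map (a • 𝟙 (DCoh.inD Y N)) = a • 𝟙 _ := by
  refine map_smul_id_of_iso _ ((DerivedCategory.singleFunctorIsoCompQ Y.Modules 0).app N) a ?_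
  let C : (kflat Y).FullSubcategory := ⟨(CochainComplex.singleFunctor Y.Modules 0).obj N, kflat_single hN 0⟩
  have hQ : a • 𝟙 (DerivedCategory.Q.obj C.obj) = DerivedCategory.Q.map (a • 𝟙 C.obj) := by
    rw [Functor.map_smul, CategoryTheory.Functor.map_id]
  show (DCoh.Lpull f).map (a • 𝟙 (DerivedCategory.Q.obj C.obj)) = _
  rw [hQ]
  refine (NatIso.naturality_2 (lpullIso f) (⟨a • 𝟙 C.obj⟩ : C ⟶ C)).symm.trans ?_
  let P := Scheme.Modules.pullback f
  have hF : DerivedCategory.Q.map ((P.mapHomologicalComplex (ComplexShape.up ℤ)).map (a • 𝟙 C.obj)) = a • 𝟙 _ := by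
    have h : (P.mapHomologicalComplex (ComplexShape.up ℤ)).map (a • 𝟙 C.obj) = a • 𝟙 _ := by
      refine HomologicalComplex.hom_ext _ _ fun i => ?_
      show P.map (a • 𝟙 (C.obj.X i)) = a • 𝟙 _
      rw [KLin.smul_id, H24Formal.pullback_map_smulMod f hf, ← KLin.smul_id]
      rfl
    rw [h, Functor.map_smul, CategoryTheory.Functor.map_id]
  show (lpullIso f).hom.app C ≫ DerivedCategory.Q.map ((P.mapHomologicalComplex (ComplexShape.up ℤ)).map (a • 𝟙 C.obj)) ≫ (lpullIso f).inv.app C = _
  rw [hF]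
  exact conj_smul_id ((lpullIso f).app C) a

/-- Bounded coherent is reflected by a closed immersion. -/
theorem cohbP_of_rpush {X Y : Scheme.{u}} [IsLocallyNoetherian X] (i : X ⟶ Y) [IsClosedImmersion i] [DCoh.HasRpush i]
    (K : DCoh.D X) (h : SGA6.cohbP Y ((DCoh.Rpush i).obj K)) : SGA6.cohbP X K := by
  obtain ⟨hc, a, b, ha, hb⟩ := h
  obtain ⟨e⟩ := H8Props.RpushAffine.nonempty_rpush_closed i K
  haveI := ha
  haveI := hb
  let c : ∀ m, DCoh.HD ((DCoh.Rpush i).obj K) m ≅ (Scheme.Modules.pushforward i).obj (DCoh.HD K m) := fun m =>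
    (DerivedCategory.homologyFunctor Y.Modules m).mapIso e ≪≫ H8Props.PushPC.hdPushD i K m
  refine ⟨fun m => ?_, a, b,
    (DerivedCategory.isGE_iff _ _).2 fun m hm => H8Props.PushPC.isZero_of_isZero_push i
      ((DerivedCategory.isZero_of_isGE _ a m hm).of_iso (c m).symm),
    (DerivedCategory.isLE_iff _ _).2 fun m hm => H8Props.PushPC.isZero_of_isZero_push i
      ((DerivedCategory.isZero_of_isLE _ b m hm).of_iso (c m).symm)⟩
  haveI := H16Derived.ProjFormula.isIso_counit_of_isClosedImmersion i (DCoh.HD K m)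
  exact H10Coh.isCoh_of_iso (asIso ((Scheme.Modules.pullbackPushforwardAdjunction i).counit.app (DCoh.HD K m)))
    (H17.ConsProp.isCoh_pullback i (H10Coh.isCoh_of_iso (c m) (hc m)))

end Groth.Agent.H02CA.PnDetect
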