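import Groth.Agent.H16Derived.QCohD.HomVanish
import Groth.Agent.H16Derived.KFlat.PerfRegular
import Groth.Agent.H16Derived.GenAmpleZero
import Groth.Agent.H10Coh.FinType2
import Groth.Agent.H05EGA4.Regular

/-!
# Perfect objects on the spectrum of a field
-/

set_option autoImplicit false
set_option linter.style.haveILetI false
set_option backward.isDefEq.respectTransparency false

universe u

open CategoryTheory CategoryTheory.Limits AlgebraicGeometry CategoryTheory.Pretriangulated

attribute [local instance] HasDerivedCategory.standard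

namespace Groth.Agent.H02CA.PnDetect

open Groth.Agent.H10Coh Groth.Agent.H16Derived Groth.Agent.H16Derived.QCohD Groth.Agent.H16Derived.KFlat.Stalk

variable {X : Scheme.{u}}

theorem freeShEquiv_sum (M : X.Modules) {ι : Type*} (s : Finset ι) (f : ι → (freeSh (⊤ : X.Opens) ⟶ M)) :
    freeShEquiv ⊤ M (∑ i ∈ s, f i) = ∑ i ∈ s, freeShEquiv ⊤ M (f i) := by
  have h : ∀ g : freeSh (⊤ : X.Opens) ⟶ M, freeShEquiv ⊤ M g = g.app ⊤ (freeShEquiv ⊤ _ (𝟙 _)) := fun g => by
    rw [← freeShEquiv_comp, Category.id_comp]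
  let φ : (freeSh (⊤ : X.Opens) ⟶ M) →+ Γ(M, ⊤) :=
    { toFun := freeShEquiv ⊤ M
      map_zero' := by rw [h]; rfl
      map_add' := fun a b => by rw [h, h a, h b]; rfl }
  exact map_sum φ f s

/-- Sections of `H` are spanned by finitely many, if the maps from `O` are spanned over `End O` by finitely many. -/
theorem finite_sections_top (H : X.Modules) {m : ℕ} (z : Fin m → (Coh.structureModule X ⟶ H))
    (hz : ∀ w : Coh.structureModule X ⟶ H, ∃ h : Fin m → (Coh.structureModule X ⟶ Coh.structureModule X),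
      w = ∑ j, h j ≫ z j) : Module.Finite Γ(X, (⊤ : X.Opens)) Γ(H, (⊤ : X.Opens)) := by
  classical
  let one : Γ(Coh.structureModule X, (⊤ : X.Opens)) := (1 : Γ(X, (⊤ : X.Opens)))
  refine ⟨⟨Finset.univ.image fun j => (z j).app ⊤ one, ?_⟩⟩
  rw [eq_top_iff]
  intro s _
  obtain ⟨h, hh⟩ := hz (QCohD.freeShTopIso.inv ≫ (freeShEquiv ⊤ H).symm s)
  have hs : (freeShEquiv ⊤ H).symm s = ∑ j, QCohD.freeShTopIso.hom ≫ h j ≫ z j := by
    rw [← Preadditive.comp_sum, ← hh, Iso.hom_inv_id_assoc]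
  rw [← (freeShEquiv ⊤ H).apply_symm_apply s, hs, freeShEquiv_sum]
  refine Submodule.sum_mem _ fun j _ => ?_
  rw [← Category.assoc, freeShEquiv_comp]
  let r : Γ(X, (⊤ : X.Opens)) := freeShEquiv ⊤ _ (QCohD.freeShTopIso.hom ≫ h j)
  have hr : (freeShEquiv ⊤ _ (QCohD.freeShTopIso.hom ≫ h j) : Γ(Coh.structureModule X, (⊤ : X.Opens))) = r • one :=
    (mul_one r).symm
  rw [hr, Scheme.Modules.Hom.app_smul]
  exact Submodule.smul_mem _ r (Submodule.subset_span (Finset.mem_image_of_mem _ (Finset.mem_univ j)))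

variable (k : Type u) [Field k]

/-- An object of `D(Spec k)` with quasi-coherent cohomology is perfect if, for each `i`, the maps from `O` to its
`i`-th shift are finitely generated over `End O` and vanish for all but finitely many `i`. -/
theorem isPerfect_spec_field (F : DCoh.D (Spec (CommRingCat.of k))) (hF : DCoh.IsQCohD F)
    (hgen : ∀ i : ℤ, ∃ (m : ℕ) (g : Fin m → (DCoh.inD _ (Coh.structureModule (Spec (CommRingCat.of k))) ⟶ F⟦i⟧)),
      ∀ f, ∃ h : Fin m → (DCoh.inD _ (Coh.structureModule (Spec (CommRingCat.of k))) ⟶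
        DCoh.inD _ (Coh.structureModule (Spec (CommRingCat.of k)))), f = ∑ j, h j ≫ g j)
    (hfin : Set.Finite {i : ℤ | Nontrivial (DCoh.inD _ (Coh.structureModule (Spec (CommRingCat.of k))) ⟶ F⟦i⟧)}) :
    DCoh.IsPerfect F := by
  let S := Spec (CommRingCat.of k)
  haveI : IsAffine S := inferInstance
  let O := Coh.structureModule S
  let one := DCoh.inD S O
  have hq : ∀ i : ℤ, DCoh.IsQCohD (F⟦i⟧) := fun i => HomVanish.isQCohD_shift hF i
  let Θ : ∀ i : ℤ, (one ⟶ F⟦i⟧) → (O ⟶ DCoh.HD (F⟦i⟧) 0) := fun i f => QCohD.θ O 0 f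
  have hΘ : ∀ i, Function.Surjective (Θ i) := fun i w => by
    obtain ⟨φ, hφ⟩ := (bijective_θ_affine (hq i) (isAffineOpen_top S) 0).2 (freeShTopIso.hom ≫ w)
    refine ⟨(DerivedCategory.singleFunctor S.Modules 0).map freeShTopIso.inv ≫ φ, ?_⟩
    show QCohD.θ O 0 _ = w
    rw [θ_precomp, hφ, Iso.inv_hom_id_assoc]
  have e : ∀ i : ℤ, DCoh.HD (F⟦i⟧) 0 ≅ DCoh.HD F i := fun i =>
    ((DerivedCategory.homologyFunctor S.Modules 0).shiftIso i 0 i (by omega)).app F
  have hcoh : DCoh.IsCohD F := fun i => by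
    refine (isCoh_iff_finite_sections _).2 ⟨hF i, fun U hU => ?_⟩
    rcases Set.eq_empty_or_nonempty (U : Set S) with h0 | ⟨x, hx⟩
    · obtain rfl : U = ⊥ := TopologicalSpace.Opens.ext h0
      haveI : Subsingleton Γ(DCoh.HD F i, (⊥ : S.Opens)) := by
        haveI : Subsingleton Γ(S, (⊥ : S.Opens)) := inferInstance
        exact Module.subsingleton Γ(S, (⊥ : S.Opens)) _
      infer_instance
    · obtain rfl : U = ⊤ := TopologicalSpace.Opens.ext (Set.eq_univ_of_forall fun y => by
        rwa [Subsingleton.elim (α := PrimeSpectrum k) y x])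
      obtain ⟨m, g, hg⟩ := hgen i
      refine finite_sections_top (DCoh.HD F i) (fun j => Θ i (g j) ≫ (e i).hom) fun w => ?_
      obtain ⟨f, hf⟩ := hΘ i (w ≫ (e i).inv)
      obtain ⟨h, rfl⟩ := hg f
      choose h' hh' using fun j => (DerivedCategory.singleFunctor S.Modules 0).map_surjective (h j)
      refine ⟨h', ?_⟩
      rw [← cancel_mono (e i).inv, ← hf, Preadditive.sum_comp]
      have hadd : Θ i (∑ j, h j ≫ g j) = ∑ j, Θ i (h j ≫ g j) :=
        map_sum (AddMonoidHom.mk' (Θ i) fun a b => by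
          simp only [Θ, QCohD.θ, Functor.map_add, Preadditive.comp_add]) _ _
      rw [hadd]
      refine Finset.sum_congr rfl fun j _ => ?_
      simp only [Category.assoc, Iso.hom_inv_id, Category.comp_id]
      rw [← hh' j]
      exact θ_precomp (h' j) 0 (g j)
  have hz : ∀ i, i ∉ {i : ℤ | Nontrivial (one ⟶ F⟦i⟧)} → IsZero (DCoh.HD F i) := fun i hi => by
    haveI : Subsingleton (one ⟶ F⟦i⟧) := not_nontrivial_iff_subsingleton.1 hi
    haveI : Subsingleton (O ⟶ DCoh.HD (F⟦i⟧) 0) := (hΘ i).subsingleton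
    refine IsZero.of_iso (H17.FPExt.isZero_of_stalk _ fun x => ?_) (e i).symm
    haveI : Subsingleton Γ(DCoh.HD (F⟦i⟧) 0, (⊤ : S.Opens)) :=
      ((freeShEquiv ⊤ _).symm.trans freeShTopIso.homFromEquiv).subsingleton
    exact AffineUnit.subsingleton_stalk_of_sections (hq i 0) (isAffineOpen_top S) (trivial : x ∈ (⊤ : S.Opens))
  obtain ⟨a, ha⟩ := hfin.bddBelow
  obtain ⟨b, hb⟩ := hfin.bddAbove
  haveI : F.IsGE a := (DerivedCategory.isGE_iff _ _).2 fun i hi => hz i fun h => (not_le.2 hi) (ha h)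
  haveI : F.IsLE b := (DerivedCategory.isLE_iff _ _).2 fun i hi => hz i fun h => (not_le.2 hi) (hb h)
  exact isPerfect_of_homology (b + 1 - a).toNat a inferInstance
    ((DerivedCategory.isLE_iff _ _).2 fun i hi => DerivedCategory.isZero_of_isLE F b i (by omega))
    fun i => isPerfect_inD_of_isCoh (fun x => by
      haveI : IsRegularRing k := H05EGA4.isRegularRing_of_isRegularLocalRing k
      exact IsRegularLocalRing.of_ringEquiv (Spec.stalkIso (CommRingCat.of k) x).symm.commRingCatIsoToRingEquiv) (hcoh i)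

end Groth.Agent.H02CA.PnDetect
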