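import Groth.Agent.H02CA.PnDetect.Perf
import Groth.Agent.H02CA.PnDetect.Base
import Groth.Agent.H16Derived.PnD.Gen
import Groth.Agent.H16Derived.PnD.PC
import Groth.Agent.H16Derived.KFlat.PerfCohSingle
import Groth.Prelude.Def_KLin

/-!
# Bounded coherent objects on a projective space over a field via twisted cohomology
-/

set_option autoImplicit false
set_option linter.style.haveILetI false
set_option backward.isDefEq.respectTransparency false

universe u

open CategoryTheory CategoryTheory.Limits AlgebraicGeometry CategoryTheory.Pretriangulated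

attribute [local instance] HasDerivedCategory.standard

noncomputable section

namespace Groth.Agent.H02CA.PnDetect

open Groth.Agent.H16Derived Groth.Agent.H16Derived.PnD Groth.Agent.H16Derived.KFlat Groth.Agent.H16Derived.KFlat.Stalk
open Groth.Agent.H22Alg Groth.Agent.H22Alg.PB Groth.Agent.H10Coh.Stab

theorem cohbP_lw {X : Scheme.{u}} [IsLocallyNoetherian X] {L : X.Modules} (hL : Coh.IsCoh L) [PreservesFiniteLimits (lw L)]
    [PreservesFiniteColimits (lw L)] {K : DCoh.D X} (hK : SGA6.cohbP X K) :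
    SGA6.cohbP X ((lw L).mapDerivedCategory.obj K) := by
  obtain ⟨hc, a, b, ha, hb⟩ := hK
  let C := DerivedCategory.Q.objPreimage K
  let c : DerivedCategory.Q.obj C ≅ K := DerivedCategory.Q.objObjPreimageIso K
  have e : ∀ i, (lw L).obj (DCoh.HD K i) ≅ DCoh.HD ((lw L).mapDerivedCategory.obj K) i := fun i =>
    (lw L).mapIso ((DerivedCategory.homologyFunctor X.Modules i).mapIso c.symm ≪≫
      (DerivedCategory.homologyFunctorFactors X.Modules i).app C) ≪≫
      ((C.sc i).mapHomologyIso (lw L)).symm ≪≫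
      ((DerivedCategory.homologyFunctorFactors X.Modules i).app
        (((lw L).mapHomologicalComplex (ComplexShape.up ℤ)).obj C)).symm ≪≫
      (DerivedCategory.homologyFunctor X.Modules i).mapIso
        (((lw L).mapDerivedCategoryFactors.app C).symm ≪≫ (lw L).mapDerivedCategory.mapIso c)
  exact ⟨fun i => H10Coh.isCoh_of_iso (e i) (H10Coh.TT.isCoh_tensorMod hL (hc i)), a, b,
    (DerivedCategory.isGE_iff _ _).2 fun i hi => ((lw L).map_isZero
      (DerivedCategory.isZero_of_isGE K a i hi)).of_iso (e i).symm,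
    (DerivedCategory.isLE_iff _ _).2 fun i hi => ((lw L).map_isZero
      (DerivedCategory.isZero_of_isLE K b i hi)).of_iso (e i).symm⟩

theorem isPerfect_structure (X : Scheme.{u}) : DCoh.IsPerfect (DCoh.inD X (Coh.structureModule X)) :=
  isPerfect_inD (PnVan.finLocFree_of_inv (PnDeg0.isInvertible_structure X))

/-- Finite generation over scalars of maps from `O` passes to the direct image, when `π^*` is fully faithful on `O`. -/
theorem push_generated {P S : Scheme.{u}} (π : P ⟶ S) [QuasiCompact π] [QuasiSeparated π]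
    [DCoh.HasLpull π] [DCoh.HasRpush π] (k : Type u) [CommRing k] [P.Over (Spec (CommRingCat.of k))]
    (eO : (DCoh.Rpush π).obj (DCoh.inD P (Coh.structureModule P)) ≅ DCoh.inD S (Coh.structureModule S))
    (K : DCoh.D P)
    (hfin : ∀ i : ℤ, Module.Finite k (DCoh.inD P (Coh.structureModule P) ⟶ K⟦i⟧))
    (hbd : Set.Finite {i : ℤ | Nontrivial (DCoh.inD P (Coh.structureModule P) ⟶ K⟦i⟧)}) :
    (∀ i : ℤ, ∃ (m : ℕ) (g : Fin m → (DCoh.inD S (Coh.structureModule S) ⟶ ((DCoh.Rpush π).obj K)⟦i⟧)),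
      ∀ f, ∃ h : Fin m → (DCoh.inD S (Coh.structureModule S) ⟶ DCoh.inD S (Coh.structureModule S)),
        f = ∑ j, h j ≫ g j) ∧
    Set.Finite {i : ℤ | Nontrivial (DCoh.inD S (Coh.structureModule S) ⟶ ((DCoh.Rpush π).obj K)⟦i⟧)} := by
  letI := rpushCommShift π
  haveI := rpush_isTriangulated π
  let oneS := DCoh.inD S (Coh.structureModule S)
  let oneP := DCoh.inD P (Coh.structureModule P)
  let adj := lpullRpushAdj π
  haveI := isIso_unit_qcoh π eO (Dual.isQCohD_of_isPerfect (isPerfect_structure S))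
  let u : (DCoh.Lpull π).obj oneS ≅ oneP :=
    lpullSingleIso π (PnVan.finLocFree_of_inv (PnDeg0.isInvertible_structure S)) 0 ≪≫
      (DerivedCategory.singleFunctor P.Modules 0).mapIso (structurePullbackIso π)
  let s : ∀ i : ℤ, (DCoh.Rpush π).obj (K⟦i⟧) ≅ ((DCoh.Rpush π).obj K)⟦i⟧ := fun i =>
    ((DCoh.Rpush π).commShiftIso i).app K
  let Ψ : ∀ i : ℤ, (oneP ⟶ K⟦i⟧) ≃ (oneS ⟶ ((DCoh.Rpush π).obj K)⟦i⟧) := fun i =>
    (u.symm.homFromEquiv).trans ((adj.homEquiv _ _).trans (s i).homToEquiv)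
  have hΨ : ∀ i f, Ψ i f = adj.unit.app oneS ≫ (DCoh.Rpush π).map (u.hom ≫ f) ≫ (s i).hom := fun i f => by
    show adj.homEquiv _ _ (u.hom ≫ f) ≫ (s i).hom = _
    rw [Adjunction.homEquiv_unit, Category.assoc]
  refine ⟨fun i => ?_, hbd.subset fun i (hi : Nontrivial _) => (Ψ i).nontrivial⟩
  obtain ⟨m, b, hb⟩ := Module.Finite.exists_fin (R := k) (M := oneP ⟶ K⟦i⟧)
  refine ⟨m, fun j => Ψ i (b j), fun f => ?_⟩
  obtain ⟨a, ha⟩ := (Submodule.mem_span_range_iff_exists_fun k).1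
    (show (Ψ i).symm f ∈ Submodule.span k (Set.range b) by rw [hb]; exact Submodule.mem_top)
  let v : Fin m → ((DCoh.Lpull π).obj oneS ⟶ (DCoh.Lpull π).obj oneS) := fun j =>
    u.hom ≫ (a j • 𝟙 oneP) ≫ u.inv
  let h : Fin m → (oneS ⟶ oneS) := fun j => adj.homEquiv _ _ (v j) ≫ inv (adj.unit.app oneS)
  refine ⟨h, ?_⟩
  rw [← (Ψ i).apply_symm_apply f, ← ha, hΨ, Preadditive.comp_sum, Functor.map_sum, Preadditive.sum_comp,
    Preadditive.comp_sum]
  refine Finset.sum_congr rfl fun j _ => ?_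
  show _ = h j ≫ Ψ i (b j)
  rw [hΨ]
  have hj : h j ≫ adj.unit.app oneS = adj.unit.app oneS ≫ (DCoh.Rpush π).map (v j) := by
    show (adj.homEquiv _ _ (v j) ≫ inv (adj.unit.app oneS)) ≫ adj.unit.app oneS = _
    rw [Category.assoc, IsIso.inv_hom_id, Category.comp_id, Adjunction.homEquiv_unit]
  rw [← Category.assoc (h j), hj]
  simp only [Category.assoc, ← Functor.map_comp_assoc, v]
  rw [Iso.inv_hom_id_assoc, Linear.smul_comp, Category.id_comp]

variable (k : Type u) [Field k] (n : ℕ)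

theorem cohbP_iff (K : DCoh.D (CohB1.ProjSpaceOver n (Spec (.of k)))) (hK : DCoh.IsQCohD K)
    [∀ d : ℤ, DCoh.HasLTensorMod (Twist.twistOver n (Spec (.of k)) d)]
    (h : ∀ d : ℕ, d ≤ n →
      (∀ i : ℤ, Module.Finite k (DCoh.inD (CohB1.ProjSpaceOver n (Spec (.of k))) (Coh.structureModule (CohB1.ProjSpaceOver n (Spec (.of k)))) ⟶
          (shiftFunctor (DCoh.D (CohB1.ProjSpaceOver n (Spec (.of k)))) i).obj ((DCoh.LTensorMod (Twist.twistOver n (Spec (.of k)) (d : ℤ))).obj K))) ∧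
      Set.Finite {i : ℤ | Nontrivial (DCoh.inD (CohB1.ProjSpaceOver n (Spec (.of k))) (Coh.structureModule (CohB1.ProjSpaceOver n (Spec (.of k)))) ⟶
          (shiftFunctor (DCoh.D (CohB1.ProjSpaceOver n (Spec (.of k)))) i).obj ((DCoh.LTensorMod (Twist.twistOver n (Spec (.of k)) (d : ℤ))).obj K))}) :
    SGA6.cohbP (CohB1.ProjSpaceOver n (Spec (.of k))) K := by
  let S := Spec (CommRingCat.of k)
  have hπ := PnD.isPn n S
  let O : ℤ → (KRR.PY n S).Modules := fun d => Twist.twistOver n S d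
  haveI : ∀ d : ℤ, PreservesFiniteLimits (lw (Twist.twistOver n S d)) := fun d => (exact_lw (hπ.tw.inv d)).1
  haveI : ∀ d : ℤ, PreservesFiniteColimits (lw (Twist.twistOver n S d)) := fun d => (exact_lw (hπ.tw.inv d)).2
  haveI := hπ.isProper
  haveI := hπ.flat
  haveI := hasLpull (KRR.pr n S)
  haveI := QCohD.hasRpush (KRR.pr n S)
  haveI : IsLocallyNoetherian (KRR.PY n S) := LocallyOfFiniteType.isLocallyNoetherian (KRR.pr n S)
  haveI : CompactSpace (KRR.PY n S) := QuasiCompact.compactSpace_of_compactSpace (KRR.pr n S)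
  obtain ⟨eO⟩ := nonempty_push_one hπ
  have hq : ∀ (d : ℤ) {M : DCoh.D (KRR.PY n S)}, DCoh.IsQCohD M → DCoh.IsQCohD ((lw (O d)).mapDerivedCategory.obj M) :=
    fun d M hM => isQCohD_lw (H8Props.FinLocFree.isQCoh_of_isFinLocFree _ (hπ.finLocFree_O d)) hM
  let K' := (lw (O (n : ℤ))).mapDerivedCategory.obj K
  have hK' : DCoh.IsPerfect K' := by
    refine isPerfect_of_twists hπ (fun C hC hz => isZero_of_twists n S hC hz) (hq _ hK) fun j hj => ?_
    obtain ⟨p⟩ := hπ.tw.add (n : ℤ) (-(j : ℤ))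
    obtain ⟨c⟩ := nonempty_lw_lw (O (-(j : ℤ))) (O (n : ℤ)) (O ((n : ℤ) + -(j : ℤ))) p K
    obtain ⟨l⟩ := nonempty_ltensorMod_lw (Twist.twistOver n S ((n - j : ℕ) : ℤ)) K
    obtain ⟨hf, hb⟩ := h (n - j) (Nat.sub_le n j)
    let M := (DCoh.LTensorMod (Twist.twistOver n S ((n - j : ℕ) : ℤ))).obj K
    obtain ⟨hgen, hfin⟩ := push_generated (KRR.pr n S) k eO M hf hb
    have hM : DCoh.IsQCohD M := QCohD.isQCohD_iso l.symm (hq _ hK)
    refine isPerfect_of_iso ((DCoh.Rpush (KRR.pr n S)).mapIso (l ≪≫ eqToIso (congrArg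
      (fun d : ℤ => (lw (O d)).mapDerivedCategory.obj K) (show ((n - j : ℕ) : ℤ) = (n : ℤ) + -(j : ℤ) by omega)) ≪≫ c.symm)) ?_
    exact isPerfect_spec_field k _ (QCohD.isQCohD_rpush _ hM) hgen hfin
  obtain ⟨z⟩ := hπ.tw.zero
  obtain ⟨p⟩ := hπ.tw.add (n : ℤ) (-(n : ℤ))
  obtain ⟨w⟩ := nonempty_lw_lw (O (-(n : ℤ))) (O (n : ℤ)) (O ((n : ℤ) + -(n : ℤ))) p K
  obtain ⟨w'⟩ := nonempty_lw_one (O ((n : ℤ) + -(n : ℤ))) (eqToIso (congrArg O (add_neg_cancel (n : ℤ))) ≪≫ z) K
  have hP : DCoh.IsPerfect K := isPerfect_of_iso (w ≪≫ w') (isPerfect_lw (hπ.tw.inv _) hK')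
  obtain ⟨a, b, ha, hb⟩ := FMKWit.exists_bounds_of_isPerfect hP
  exact ⟨FMKWit.isCohD_of_isPerfect hP, a, b, ha, hb⟩

end Groth.Agent.H02CA.PnDetect
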