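import Groth.Agent.H16Derived.PnD.PC
import Groth.Agent.H16Derived.FMKWit.Main

/-!
# Perfectness on a projective space is detected by the twisted direct images
-/

set_option autoImplicit false
set_option linter.style.haveILetI false
set_option backward.isDefEq.respectTransparency false

universe u

open CategoryTheory CategoryTheory.Limits AlgebraicGeometry CategoryTheory.Pretriangulated

attribute [local instance] HasDerivedCategory.standard

noncomputable section

namespace Groth.Agent.H02CA.PnDetect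

open Groth.Agent.H16Derived Groth.Agent.H16Derived.PnD Groth.Agent.H16Derived.KFlat Groth.Agent.H16Derived.KFlat.Stalk
open Groth.Agent.H16Derived.Thomason Groth.Agent.H22Alg Groth.Agent.H22Alg.PB Groth.Agent.H10Coh.Stab

variable {P S : Scheme.{u}} {r : ℕ} {π : P ⟶ S} {O : ℤ → P.Modules}

variable [∀ d : ℤ, PreservesFiniteLimits (lw (O d))] [∀ d : ℤ, PreservesFiniteColimits (lw (O d))]

/-- If the twisted direct images are perfect, so is the object. -/
theorem isPerfect_of_twists (hπ : IsPn r π O) [DCoh.HasLpull π] [DCoh.HasRpush π]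
    (hgen : ∀ C : DCoh.D P, DCoh.IsQCohD C → (∀ j : ℕ, j ≤ r → IsZero ((DCoh.Rpush π).obj
      ((lw (O (-(j : ℤ)))).mapDerivedCategory.obj C))) → IsZero C)
    {K : DCoh.D P} (hK : DCoh.IsQCohD K)
    (h : ∀ j : ℕ, j ≤ r → DCoh.IsPerfect ((DCoh.Rpush π).obj ((lw (O (-(j : ℤ)))).mapDerivedCategory.obj K))) :
    DCoh.IsPerfect K := by
  haveI := hπ.isProper
  haveI := hπ.flat
  haveI := PBQC.isLFP hπ
  letI := lpullCommShift π
  haveI := lpull_isTriangulated π
  letI := rpushCommShift π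
  haveI := rpush_isTriangulated π
  obtain ⟨eO⟩ := nonempty_push_one hπ
  let TO : ℤ → (DCoh.D P ⥤ DCoh.D P) := fun d => (lw (O d)).mapDerivedCategory
  have hq : ∀ (d : ℤ) {M : DCoh.D P}, DCoh.IsQCohD M → DCoh.IsQCohD ((lw (O d)).mapDerivedCategory.obj M) :=
    fun d M hM => isQCohD_lw (H8Props.FinLocFree.isQCoh_of_isFinLocFree _ (hπ.finLocFree_O d)) hM
  have hTT : ∀ (a b c : ℤ) (_ : b + a = c) (M : DCoh.D P), Nonempty ((lw (O a)).mapDerivedCategory.obj
      ((lw (O b)).mapDerivedCategory.obj M) ≅ (lw (O c)).mapDerivedCategory.obj M) := fun a b c h M => by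
    subst h
    obtain ⟨p⟩ := hπ.tw.add b a
    exact nonempty_lw_lw _ _ _ p M
  obtain ⟨z₀⟩ := hπ.tw.zero
  suffices key : ∀ k : ℕ, k ≤ r + 1 → ∀ K : DCoh.D P, DCoh.IsQCohD K →
      (∀ j : ℕ, k ≤ j → j ≤ r → IsZero ((DCoh.Rpush π).obj ((lw (O (-(j : ℤ)))).mapDerivedCategory.obj K))) →
      (∀ j : ℕ, j < k → DCoh.IsPerfect ((DCoh.Rpush π).obj ((lw (O (-(j : ℤ)))).mapDerivedCategory.obj K))) →
      DCoh.IsPerfect K by
    exact key (r + 1) le_rfl K hK (fun j h₁ h₂ => absurd h₁ (by omega)) fun j hj => h j (by omega)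
  intro k
  induction k with
  | zero =>
    intro _ K hK h _
    exact Thomason.isPerfect_zero (hgen K hK fun j hj => h j (Nat.zero_le j) hj)
  | succ k ih =>
    intro hk K hK h hpc
    let a := lpullRpushAdj π
    let K' := (lw (O (-(k : ℤ)))).mapDerivedCategory.obj K
    have hK' : DCoh.IsQCohD K' := hq _ hK
    let F := (DCoh.Rpush π).obj K'
    have hF : DCoh.IsPerfect F := hpc k (Nat.lt_succ_self k)
    have hFq : DCoh.IsQCohD F := QCohD.isQCohD_rpush π hK'
    have hLF : DCoh.IsPerfect ((DCoh.Lpull π).obj F) := isPerfect_lpull π hF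
    obtain ⟨C', p, q, hT⟩ := distinguished_cocone_triangle (a.counit.app K')
    have hC' : DCoh.IsQCohD C' := QCohD.AffineUnit.isQCohD_obj₃ hT (QCohD.isQCohD_lpull π hFq) hK'
    haveI := isIso_unit_qcoh π eO hFq
    haveI : IsIso ((DCoh.Rpush π).map (a.counit.app K')) := by
      haveI : IsIso (a.unit.app F ≫ (DCoh.Rpush π).map (a.counit.app K')) := by
        erw [a.right_triangle_components]
        exact inferInstanceAs (IsIso (𝟙 _))
      exact IsIso.of_isIso_comp_left (a.unit.app F) _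
    have hRC : IsZero ((DCoh.Rpush π).obj C') :=
      (Triangle.isZero₃_iff_isIso₁ _ ((DCoh.Rpush π).map_distinguished _ hT)).2
        ‹IsIso ((DCoh.Rpush π).map (a.counit.app K'))›
    let C := (lw (O (k : ℤ))).mapDerivedCategory.obj C'
    have htri := (lw (O (k : ℤ))).mapDerivedCategory.map_distinguished _ hT
    obtain ⟨e₁⟩ := hTT (k : ℤ) (-(k : ℤ)) 0 (neg_add_cancel _) K
    obtain ⟨e₀⟩ := nonempty_lw_one (O 0) z₀ K
    refine isPerfect_of_iso (e₁ ≪≫ e₀) (Thomason.isPerfect_obj₂ htri (isPerfect_lw (hπ.tw.inv _) hLF)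
      (ih (by omega) C (hq _ hC') (fun j hkj hjr => ?_) fun j hjk => ?_))
    · obtain ⟨c⟩ := hTT (-(j : ℤ)) (k : ℤ) ((k : ℤ) - j) (sub_eq_add_neg _ _).symm C'
      refine IsZero.of_iso ?_ ((DCoh.Rpush π).mapIso c)
      rcases eq_or_lt_of_le hkj with rfl | hlt
      · obtain ⟨z⟩ := nonempty_lw_one (O 0) z₀ C'
        exact hRC.of_iso ((DCoh.Rpush π).mapIso
          (eqToIso (congrArg (fun d : ℤ => (TO d).obj C') (sub_self (k : ℤ))) ≪≫ z))
      · refine Triangle.isZero₃_of_isZero₁₂ _ ((DCoh.Rpush π).map_distinguished _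
          ((TO ((k : ℤ) - j)).map_distinguished _ hT))
          (isZero_rpush_lw_lpull_qcoh _ (isQCohD_inD_inv (hπ.tw.inv _))
            (isZero_push_O hπ (d := (k : ℤ) - j) (by omega) (by omega)) hFq) ?_
        obtain ⟨c'⟩ := hTT ((k : ℤ) - j) (-(k : ℤ)) (-(j : ℤ)) (by ring) K
        exact (h j hlt hjr).of_iso ((DCoh.Rpush π).mapIso c')
    · obtain ⟨c⟩ := hTT (-(j : ℤ)) (k : ℤ) ((k : ℤ) - j) (sub_eq_add_neg _ _).symm C'
      refine isPerfect_of_iso ((DCoh.Rpush π).mapIso c).symm ?_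
      refine isPerfect_obj₃ ((DCoh.Rpush π).map_distinguished _
        ((lw (O ((k : ℤ) - j))).mapDerivedCategory.map_distinguished _ hT))
        (BaseChange.isPerfect_rpush π (isPerfect_lw (hπ.tw.inv _) hLF)) ?_
      obtain ⟨c'⟩ := hTT ((k : ℤ) - j) (-(k : ℤ)) (-(j : ℤ)) (by ring) K
      exact isPerfect_of_iso ((DCoh.Rpush π).mapIso c').symm (hpc j (by omega))

end Groth.Agent.H02CA.PnDetect
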